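import Groth.Agent.OmegaLib.Affine
import Groth.Agent.Synt29.OmegaRestrict

/-! Restriction of the frozen sheaf of differentials to open subschemes. -/

set_option autoImplicit false

universe u

open CategoryTheory CategoryTheory.Limits AlgebraicGeometry TopologicalSpace Opposite

namespace Groth.Agent.OmegaUniv

section IdealSect

variable {Z P : Scheme.{u}} (g : Z ⟶ P) [QuasiCompact g]

/-- The sections of the kernel ideal of a quasi-compact morphism are the functions killed by it. -/
theorem app_idealSect (W : P.Opens) (k : Γ(ClSub.idealMod g.ker, W)) :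
    g.app W (OmegaSh.idealSect g.ker W k) = 0 := by
  refine Z.sheaf.eq_of_locally_eq'
    (fun V : {V : P.affineOpens // (V : P.Opens) ≤ W} => g ⁻¹ᵁ (V.1 : P.Opens))
    (g ⁻¹ᵁ W) (fun V => (Opens.map g.base).map (homOfLE V.2)) ?_ _ _ ?_
  · intro z hz
    obtain ⟨_, ⟨V, hV, rfl⟩, hzV, hVW⟩ :=
      P.isBasis_affineOpens.exists_subset_of_mem_open hz W.isOpen
    exact Opens.mem_iSup.mpr ⟨⟨⟨V, hV⟩, hVW⟩, hzV⟩
  · intro V
    change Z.presheaf.map ((Opens.map g.base).map (homOfLE V.2)).op (g.app W _) =
      Z.presheaf.map ((Opens.map g.base).map (homOfLE V.2)).op 0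
    rw [map_zero, ← ConcreteCategory.comp_apply]
    erw [← Scheme.Hom.naturality g (homOfLE V.2).op]
    rw [ConcreteCategory.comp_apply, ← OmegaLib.idealSect_map, ← RingHom.mem_ker, ← Scheme.Hom.ker_apply]
    exact OmegaLib.idealSect_mem g.ker V.1 _

theorem exists_idealSect_of_app_eq_zero (W : P.Opens) (x : Γ(P, W)) (hx : g.app W x = 0) :
    ∃ k, OmegaSh.idealSect g.ker W k = x := by
  refine OmegaLib.exists_idealSect_eq _ _ _ ?_
  let ι := g.ker.subschemeι
  refine g.ker.subscheme.sheaf.eq_of_locally_eq'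
    (fun V : {V : P.affineOpens // (V : P.Opens) ≤ W} => ι ⁻¹ᵁ (V.1 : P.Opens))
    (ι ⁻¹ᵁ W) (fun V => (Opens.map ι.base).map (homOfLE V.2)) ?_ _ _ ?_
  · intro z hz
    obtain ⟨_, ⟨V, hV, rfl⟩, hzV, hVW⟩ :=
      P.isBasis_affineOpens.exists_subset_of_mem_open hz W.isOpen
    exact Opens.mem_iSup.mpr ⟨⟨⟨V, hV⟩, hVW⟩, hzV⟩
  · intro V
    change g.ker.subscheme.presheaf.map ((Opens.map ι.base).map (homOfLE V.2)).op (ι.app W x) =
      g.ker.subscheme.presheaf.map ((Opens.map ι.base).map (homOfLE V.2)).op 0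
    rw [map_zero, ← ConcreteCategory.comp_apply]
    erw [← Scheme.Hom.naturality ι (homOfLE V.2).op]
    rw [ConcreteCategory.comp_apply]
    have hmem : P.presheaf.map (homOfLE V.2).op x ∈ g.ker.ideal V.1 := by
      rw [Scheme.Hom.ker_apply, RingHom.mem_ker, ← ConcreteCategory.comp_apply,
        Scheme.Hom.naturality, ConcreteCategory.comp_apply, hx, map_zero]
    rw [← Scheme.IdealSheafData.ker_subschemeι_app, RingHom.mem_ker] at hmem
    exact hmem

end IdealSect

section Square

variable {X Y X' Y' : Scheme.{u}} (f : X ⟶ Y) (f' : X' ⟶ Y') (j : X' ⟶ X) [IsOpenImmersion j]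
  (kk : Y' ⟶ Y) [IsOpenImmersion kk] (w : f' ≫ kk = j ≫ f) [QuasiSeparated f] [QuasiSeparated f']

/-- The map of fibre squares. -/
noncomputable abbrev jj : pullback f' f' ⟶ pullback f f := pullback.map f' f' f f j j kk w w

/-- The ideal of the diagonal. -/
noncomputable abbrev dI : (pullback f f).Modules := ClSub.idealMod (pullback.diagonal f).ker

omit [QuasiSeparated f] [QuasiSeparated f'] in
theorem jj_fst : jj f f' j kk w ≫ pullback.fst f f = pullback.fst f' f' ≫ j :=
  pullback.lift_fst _ _ _

omit [QuasiSeparated f] [QuasiSeparated f'] in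
theorem jj_snd : jj f f' j kk w ≫ pullback.snd f f = pullback.snd f' f' ≫ j :=
  pullback.lift_snd _ _ _

omit [QuasiSeparated f] [QuasiSeparated f'] in
theorem diag_jj : pullback.diagonal f' ≫ jj f f' j kk w = j ≫ pullback.diagonal f := by
  apply pullback.hom_ext
  · rw [Category.assoc, jj_fst, ← Category.assoc, pullback.diagonal_fst, Category.assoc,
      pullback.diagonal_fst, Category.id_comp, Category.comp_id]
  · rw [Category.assoc, jj_snd, ← Category.assoc, pullback.diagonal_snd, Category.assoc,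
      pullback.diagonal_snd, Category.id_comp, Category.comp_id]

omit [QuasiSeparated f] [QuasiSeparated f'] in
theorem diag_image_le (V : (pullback f' f').Opens) :
    pullback.diagonal f ⁻¹ᵁ (jj f f' j kk w ''ᵁ V) ≤ j.opensRange := by
  rintro x ⟨y, -, hy⟩
  refine ⟨pullback.fst f' f' y, ?_⟩
  have h : pullback.fst f f (jj f f' j kk w y) = x := by
    erw [hy]
    rw [← Scheme.Hom.comp_apply, pullback.diagonal_fst]
    rfl
  rw [← h, ← Scheme.Hom.comp_apply, ← Scheme.Hom.comp_apply, jj_fst]

omit [QuasiSeparated f] [QuasiSeparated f'] in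
theorem diag_preimage_eq (W : (pullback f f).Opens) :
    pullback.diagonal f' ⁻¹ᵁ (jj f f' j kk w ⁻¹ᵁ W) = j ⁻¹ᵁ (pullback.diagonal f ⁻¹ᵁ W) := by
  rw [← Scheme.Hom.comp_preimage, ← Scheme.Hom.comp_preimage, diag_jj f f' j kk w]

omit [QuasiSeparated f] [QuasiSeparated f'] in
theorem image_diag_le {V : (pullback f' f').Opens} {W : (pullback f f).Opens}
    (hV : V ≤ jj f f' j kk w ⁻¹ᵁ W) :
    j ''ᵁ (pullback.diagonal f' ⁻¹ᵁ V) ≤ pullback.diagonal f ⁻¹ᵁ W := by
  rintro _ ⟨x, hx, rfl⟩
  have h : x ∈ j ⁻¹ᵁ (pullback.diagonal f ⁻¹ᵁ W) :=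
    (diag_preimage_eq f f' j kk w W).le (hV hx)
  exact h

theorem appLE_congr {A B : Scheme.{u}} {g g' : A ⟶ B} (h : g = g') (U : B.Opens) (V : A.Opens)
    (e : V ≤ g ⁻¹ᵁ U) : g.appLE U V e = g'.appLE U V (h ▸ e) := by
  subst h; rfl

omit [QuasiSeparated f] [QuasiSeparated f'] in
theorem app_diag_iff (V : (pullback f' f').Opens) (x : Γ(pullback f f, jj f f' j kk w ''ᵁ V)) :
    (pullback.diagonal f').app V (((jj f f' j kk w).appIso V).hom x) = 0 ↔
      (pullback.diagonal f).app (jj f f' j kk w ''ᵁ V) x = 0 := by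
  have hV : V ≤ jj f f' j kk w ⁻¹ᵁ (jj f f' j kk w ''ᵁ V) :=
    ((jj f f' j kk w).preimage_image_eq V).ge
  have heq : pullback.diagonal f' ⁻¹ᵁ V =
      j ⁻¹ᵁ (pullback.diagonal f ⁻¹ᵁ (jj f f' j kk w ''ᵁ V)) := by
    rw [← diag_preimage_eq f f' j kk w, (jj f f' j kk w).preimage_image_eq]
  have key : ((jj f f' j kk w).appIso V).hom ≫ (pullback.diagonal f').app V =
      (pullback.diagonal f).app (jj f f' j kk w ''ᵁ V) ≫
        j.app _ ≫ X'.presheaf.map (eqToHom heq).op := by
    rw [Scheme.Hom.appIso_hom', Scheme.Hom.app_eq_appLE, Scheme.Hom.appLE_comp_appLE,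
      appLE_congr (diag_jj f f' j kk w), Scheme.Hom.app_eq_appLE (f := pullback.diagonal f),
      Scheme.Hom.app_eq_appLE (f := j), Scheme.Hom.appLE_map, Scheme.Hom.appLE_comp_appLE]
  have := Scheme.Hom.isIso_app j _ (diag_image_le f f' j kk w V)
  rw [← ConcreteCategory.comp_apply, key, ConcreteCategory.comp_apply]
  exact map_eq_zero_iff _ (ConcreteCategory.bijective_of_isIso
    (j.app _ ≫ X'.presheaf.map (eqToHom heq).op)).1

theorem exists_σ (V : (pullback f' f').Opens) (k : Γ(dI f', V)) :
    ∃ k₀ : Γ(dI f, jj f f' j kk w ''ᵁ V),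
      OmegaSh.idealSect (pullback.diagonal f).ker _ k₀ =
        ((jj f f' j kk w).appIso V).inv (OmegaSh.idealSect (pullback.diagonal f').ker V k) := by
  refine exists_idealSect_of_app_eq_zero _ _ _ ((app_diag_iff f f' j kk w V _).1 ?_)
  rw [Iso.inv_hom_id_apply, app_idealSect]

/-- The ideal of the diagonal of an open piece is the restricted ideal. -/
noncomputable def σ : dI f' ⟶ (dI f).restrict (jj f f' j kk w) where
  val := PresheafOfModules.homMk
    { app := fun V => AddCommGrpCat.ofHom (AddMonoidHom.mk'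
        (fun k => (show Γ((dI f).restrict (jj f f' j kk w), V.unop) from
          (exists_σ f f' j kk w V.unop k).choose)) fun k l => by
        refine OmegaLib.idealSect_injective (K := (pullback.diagonal f).ker) _ ?_
        refine (exists_σ f f' j kk w V.unop (k + l)).choose_spec.trans ?_
        refine ((congrArg _ (map_add (OmegaSh.idealSect (pullback.diagonal f').ker V.unop) k l)).trans
          (map_add ((jj f f' j kk w).appIso V.unop).inv.hom _ _)).trans ?_
        refine (congrArg₂ (· + ·) (exists_σ f f' j kk w V.unop k).choose_spec.symm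
          (exists_σ f f' j kk w V.unop l).choose_spec.symm).trans ?_
        exact (map_add _ _ _).symm)
      naturality := fun V V' i => by
        ext k
        refine OmegaLib.idealSect_injective (K := (pullback.diagonal f).ker) _ ?_
        refine (exists_σ f f' j kk w V'.unop _).choose_spec.trans ?_
        erw [OmegaLib.idealSect_map (K := (pullback.diagonal f').ker) i.unop.le k]
        refine Eq.trans ?_ (OmegaLib.idealSect_map (K := (pullback.diagonal f).ker)
          ((jj f f' j kk w).image_mono i.unop.le) _).symm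
        erw [(exists_σ f f' j kk w V.unop k).choose_spec]
        exact congr($((jj f f' j kk w).appIso_inv_naturality i)
          (OmegaSh.idealSect (pullback.diagonal f').ker V.unop k)) }
    fun V r k => by
      refine OmegaLib.idealSect_injective (K := (pullback.diagonal f).ker) _ ?_
      refine (exists_σ f f' j kk w V.unop _).choose_spec.trans ?_
      erw [OmegaLib.idealSect_smul (K := (pullback.diagonal f').ker), map_mul,
        ← (exists_σ f f' j kk w V.unop k).choose_spec, ← OmegaLib.idealSect_smul]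
      rfl

theorem idealSect_σ (V : (pullback f' f').Opens) (k : Γ(dI f', V)) :
    OmegaSh.idealSect (pullback.diagonal f).ker _ ((σ f f' j kk w).app V k) =
      ((jj f f' j kk w).appIso V).inv (OmegaSh.idealSect (pullback.diagonal f').ker V k) :=
  (exists_σ f f' j kk w V k).choose_spec

instance isIso_σ : IsIso (σ f f' j kk w) := by
  rw [Scheme.Modules.Hom.isIso_iff_isIso_app]
  intro V
  rw [ConcreteCategory.isIso_iff_bijective]
  constructor
  · intro k l h
    refine OmegaLib.idealSect_injective (K := (pullback.diagonal f').ker) _ ?_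
    exact (ConcreteCategory.bijective_of_isIso ((jj f f' j kk w).appIso V).inv).1
      ((idealSect_σ f f' j kk w V k).symm.trans
        ((congrArg (fun a : Γ(dI f, jj f f' j kk w ''ᵁ V) =>
          OmegaSh.idealSect (pullback.diagonal f).ker _ a) h).trans (idealSect_σ f f' j kk w V l)))
  · intro k₀
    obtain ⟨k, hk⟩ := exists_idealSect_of_app_eq_zero (pullback.diagonal f') V
      (((jj f f' j kk w).appIso V).hom (OmegaSh.idealSect (pullback.diagonal f).ker _ k₀))
      ((app_diag_iff f f' j kk w V _).2 (app_idealSect _ _ _))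
    refine ⟨k, OmegaLib.idealSect_injective (K := (pullback.diagonal f).ker) _ ?_⟩
    refine (idealSect_σ f f' j kk w V k).trans ?_
    rw [hk, Iso.hom_inv_id_apply]

variable (F : X'.Modules)

/-- The comparison of direct images. -/
noncomputable def pushIso :
    (Scheme.Modules.pushforward (pullback.diagonal f)).obj ((Scheme.Modules.pushforward j).obj F) ≅
      (Scheme.Modules.pushforward (jj f f' j kk w)).obj
        ((Scheme.Modules.pushforward (pullback.diagonal f')).obj F) :=
  (Scheme.Modules.pushforwardComp j (pullback.diagonal f)).app F ≪≫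
    (Scheme.Modules.pushforwardCongr (diag_jj f f' j kk w).symm).app F ≪≫
      ((Scheme.Modules.pushforwardComp (pullback.diagonal f') (jj f f' j kk w)).app F).symm

/-- Maps out of the restricted differentials are maps out of the differentials of the piece. -/
noncomputable def homEquiv :
    ((Omega.sheaf f).restrict j ⟶ F) ≃ (Omega.sheaf f' ⟶ F) :=
  ((Scheme.Modules.restrictAdjunction j).homEquiv _ _).trans <|
    ((Scheme.Modules.pullbackPushforwardAdjunction (pullback.diagonal f)).homEquiv (dI f) _).trans <|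
      ((Iso.refl (dI f)).homCongr (pushIso f f' j kk w F)).trans <|
        (((Scheme.Modules.restrictAdjunction (jj f f' j kk w)).homEquiv (dI f) _).symm).trans <|
          ((asIso (σ f f' j kk w)).symm.homCongr (Iso.refl _)).trans <|
            ((Scheme.Modules.pullbackPushforwardAdjunction (pullback.diagonal f')).homEquiv (dI f') F).symm

theorem homEquiv_apply (a : (Omega.sheaf f).restrict j ⟶ F) :
    homEquiv f f' j kk w F a =
      ((Scheme.Modules.pullbackPushforwardAdjunction (pullback.diagonal f')).homEquiv (dI f') F).symm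
        (σ f f' j kk w ≫ ((Scheme.Modules.restrictAdjunction (jj f f' j kk w)).homEquiv (dI f) _).symm
          ((Scheme.Modules.pullbackPushforwardAdjunction (pullback.diagonal f)).homEquiv (dI f) _
            ((Scheme.Modules.restrictAdjunction j).homEquiv (Omega.sheaf f) F a) ≫
              (pushIso f f' j kk w F).hom)) := by
  show ((Scheme.Modules.pullbackPushforwardAdjunction (pullback.diagonal f')).homEquiv (dI f') F).symm
        (σ f f' j kk w ≫ ((Scheme.Modules.restrictAdjunction (jj f f' j kk w)).homEquiv (dI f) _).symm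
          (𝟙 (dI f) ≫ (Scheme.Modules.pullbackPushforwardAdjunction (pullback.diagonal f)).homEquiv (dI f) _
            ((Scheme.Modules.restrictAdjunction j).homEquiv (Omega.sheaf f) F a) ≫
              (pushIso f f' j kk w F).hom) ≫ 𝟙 _) = _
  rw [Category.id_comp, Category.comp_id]

theorem homEquiv_natural {F' : X'.Modules} (a : (Omega.sheaf f).restrict j ⟶ F) (c : F ⟶ F') :
    homEquiv f f' j kk w F' (a ≫ c) = homEquiv f f' j kk w F a ≫ c := by
  rw [homEquiv_apply, homEquiv_apply, Adjunction.homEquiv_naturality_right]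
  erw [Adjunction.homEquiv_naturality_right]
  rw [Category.assoc]
  have hn : (Scheme.Modules.pushforward (pullback.diagonal f)).map
        ((Scheme.Modules.pushforward j).map c) ≫ (pushIso f f' j kk w F').hom =
      (pushIso f f' j kk w F).hom ≫ (Scheme.Modules.pushforward (jj f f' j kk w)).map
        ((Scheme.Modules.pushforward (pullback.diagonal f')).map c) := by
    refine Scheme.Modules.hom_ext _ _ fun W => ?_
    ext x
    exact congr($((Scheme.Modules.Hom.mapPresheaf c).naturality
      (eqToHom (diag_preimage_eq f f' j kk w W)).op) x).symm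
  erw [hn]
  refine (congrArg _ (congrArg (σ f f' j kk w ≫ ·) ((congrArg _ (Category.assoc _ _ _).symm).trans
    (Adjunction.homEquiv_naturality_right_symm _ _ _)))).trans ?_
  refine (congrArg _ (Category.assoc _ _ _).symm).trans ?_
  exact Adjunction.homEquiv_naturality_right_symm _ _ _

/-- The iso of sheaves of differentials, from the piece. -/
noncomputable def ε : Omega.sheaf f' ⟶ (Omega.sheaf f).restrict j :=
  homEquiv f f' j kk w _ (𝟙 _)

theorem isIso_ε : IsIso (ε f f' j kk w) := by
  obtain ⟨a, ha⟩ := (homEquiv f f' j kk w (Omega.sheaf f')).surjective (𝟙 _)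
  have h1 : ε f f' j kk w ≫ a = 𝟙 _ := by
    rw [ε, ← homEquiv_natural, Category.id_comp, ha]
  refine ⟨a, h1, ?_⟩
  apply (homEquiv f f' j kk w _).injective
  rw [homEquiv_natural, ha, Category.id_comp]
  rfl

omit [QuasiSeparated f] [QuasiSeparated f'] in
theorem Ωmap_map (M : X.Modules) {A B C : X.Opens} (a : B ⟶ A) (b : C ⟶ B) (c : C ⟶ A)
    (m : Γ(M, A)) : M.presheaf.map b.op (M.presheaf.map a.op m) = M.presheaf.map c.op m := by
  rw [OmegaSh.resM_resM, Subsingleton.elim (b ≫ a) c]

theorem ε_pullSect {V : (pullback f' f').Opens} {W : (pullback f f).Opens}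
    (hV : V ≤ jj f f' j kk w ⁻¹ᵁ W) (k : Γ(dI f', V)) (k₀ : Γ(dI f, W))
    (hk : (σ f f' j kk w).app V k =
      (dI f).presheaf.map (homOfLE (((jj f f' j kk w).image_mono hV).trans
        ((jj f f' j kk w).image_preimage_le W))).op k₀) :
    (ε f f' j kk w).app (pullback.diagonal f' ⁻¹ᵁ V)
        (OmegaSh.pullSect (pullback.diagonal f') (dI f') V k) =
      (Omega.sheaf f).presheaf.map (homOfLE (image_diag_le f f' j kk w hV)).op
        (OmegaSh.pullSect (pullback.diagonal f) (dI f) W k₀) := by
  refine (OmegaLib.pullSect_adjoint (pullback.diagonal f') (dI f') _ (ε f f' j kk w) V k).trans ?_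
  rw [ε, homEquiv_apply, Equiv.apply_symm_apply]
  set g := (Scheme.Modules.pullbackPushforwardAdjunction (pullback.diagonal f)).homEquiv (dI f) _
    ((Scheme.Modules.restrictAdjunction j).homEquiv (Omega.sheaf f) _ (𝟙 _)) ≫
      (pushIso f f' j kk w _).hom with hg
  rw [Adjunction.homEquiv_counit]
  show ((Scheme.Modules.restrictAdjunction (jj f f' j kk w)).counit.app
      ((Scheme.Modules.pushforward (pullback.diagonal f')).obj ((Omega.sheaf f).restrict j))).app V
      (g.app (jj f f' j kk w ''ᵁ V) ((σ f f' j kk w).app V k)) = _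
  rw [hk, QCoh.map_app_comm]
  show (Omega.sheaf f).presheaf.map _ ((Omega.sheaf f).presheaf.map _
      ((Omega.sheaf f).presheaf.map _ ((Omega.sheaf f).presheaf.map _
        (OmegaSh.pullSect (pullback.diagonal f) (dI f) W k₀)))) = _
  erw [OmegaSh.resM_resM, OmegaSh.resM_resM, OmegaSh.resM_resM]
  exact congrArg (fun t => (Omega.sheaf f).presheaf.map t
    (OmegaSh.pullSect (pullback.diagonal f) (dI f) W k₀)) (Subsingleton.elim _ _)

omit [QuasiSeparated f] [QuasiSeparated f'] in
theorem diagNbhd_le (U : X.Opens) :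
    OmegaSh.diagNbhd f' (j ⁻¹ᵁ U) ≤ jj f f' j kk w ⁻¹ᵁ OmegaSh.diagNbhd f U := by
  intro z hz
  refine ⟨?_, ?_⟩
  · show pullback.fst f f (jj f f' j kk w z) ∈ U
    have : j (pullback.fst f' f' z) ∈ U := hz.1
    rw [← Scheme.Hom.comp_apply] at this ⊢
    rwa [jj_fst]
  · show pullback.snd f f (jj f f' j kk w z) ∈ U
    have : j (pullback.snd f' f' z) ∈ U := hz.2
    rw [← Scheme.Hom.comp_apply] at this ⊢
    rwa [jj_snd]

omit [QuasiSeparated f] [QuasiSeparated f'] in
theorem diagDiff_compat (U : X.Opens) (t : Γ(X, U)) :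
    (jj f f' j kk w).appLE (OmegaSh.diagNbhd f U) (OmegaSh.diagNbhd f' (j ⁻¹ᵁ U))
        (diagNbhd_le f f' j kk w U) (OmegaSh.diagDiff f U t) =
      OmegaSh.diagDiff f' (j ⁻¹ᵁ U) (j.app U t) := by
  simp only [OmegaSh.diagDiff, map_sub, ← ConcreteCategory.comp_apply, Scheme.Hom.appLE_comp_appLE,
    Scheme.Hom.app_eq_appLE]
  rw [appLE_congr (jj_fst f f' j kk w), appLE_congr (jj_snd f f' j kk w)]

theorem σ_idealLift (U : X.Opens) (t : Γ(X, U)) :
    (σ f f' j kk w).app (OmegaSh.diagNbhd f' (j ⁻¹ᵁ U))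
        (OmegaSh.idealLift f' (j ⁻¹ᵁ U) (j.app U t)) =
      (dI f).presheaf.map (homOfLE (((jj f f' j kk w).image_mono (diagNbhd_le f f' j kk w U)).trans
        ((jj f f' j kk w).image_preimage_le _))).op (OmegaSh.idealLift f U t) := by
  refine OmegaLib.idealSect_injective (K := (pullback.diagonal f).ker) _ ?_
  refine (idealSect_σ f f' j kk w _ _).trans ?_
  rw [OmegaLib.idealSect_map]
  have h1 : OmegaSh.idealSect (pullback.diagonal f).ker _ (OmegaSh.idealLift f U t) =
      OmegaSh.diagDiff f U t := by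
    rw [OmegaSh.idealSect_apply, OmegaSh.ι_idealLift]; rfl
  have h2 : OmegaSh.idealSect (pullback.diagonal f').ker _
      (OmegaSh.idealLift f' (j ⁻¹ᵁ U) (j.app U t)) =
      OmegaSh.diagDiff f' (j ⁻¹ᵁ U) (j.app U t) := by
    rw [OmegaSh.idealSect_apply, OmegaSh.ι_idealLift]; rfl
  rw [h1, h2, ← diagDiff_compat f f' j kk w, ← ConcreteCategory.comp_apply,
    Scheme.Hom.appLE_appIso_inv]

/-- The comparison is compatible with the derivations. -/
theorem ε_dOmega (W : X'.Opens) (s : Γ(X', W)) :
    (ε f f' j kk w).app W ((OmegaSh.dOmega f').app W s) =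
      (Synt29.OmegaStalk.restrictDer j (OmegaSh.dOmega f)).app W s := by
  suffices h : (Synt29.OmegaStalk.derOfOpen (j ≫ f) f' kk w.symm (OmegaSh.dOmega f')).postcomp
      (ε f f' j kk w).val = Synt29.OmegaStalk.restrictDer j (OmegaSh.dOmega f) from
    PresheafOfModules.Derivation.congr_d h s
  refine Synt29.OmegaStalk.der_ext_of_app j fun U t => ?_
  show (ε f f' j kk w).app (j ⁻¹ᵁ U) (OmegaSh.dSect f' (j ⁻¹ᵁ U) (j.app U t)) =
    (OmegaSh.dOmega f).app (j ''ᵁ (j ⁻¹ᵁ U)) ((j.appIso (j ⁻¹ᵁ U)).inv (j.app U t))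
  refine Eq.trans ?_ ((congrArg _ (congr($(j.app_appIso_inv U) t))).trans
    (Synt29.OmegaStalk.app_res (Omega.sheaf f) (OmegaSh.dOmega f)
      (homOfLE (j.image_preimage_le U)) t)).symm
  show _ = (Omega.sheaf f).presheaf.map _ (OmegaSh.dSect f U t)
  unfold OmegaSh.dSect
  erw [QCoh.map_app_comm]
  erw [ε_pullSect f f' j kk w (diagNbhd_le f f' j kk w U)
    (OmegaSh.idealLift f' (j ⁻¹ᵁ U) (j.app U t)) (OmegaSh.idealLift f U t) (σ_idealLift f f' j kk w U t)]
  show (Omega.sheaf f).presheaf.map (j.opensFunctor.map (homOfLE _)).op _ = _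
  erw [OmegaSh.resM_resM, OmegaSh.resM_resM]
  exact congrArg (fun a => (Omega.sheaf f).presheaf.map a _) (Subsingleton.elim _ _)

end Square

end Groth.Agent.OmegaUniv
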