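import Groth.Agent.OmegaUniv.Universal
import Groth.Prelude.Def_OmAff

/-!
# The comparison map `Ω[Γ(X,U)⁄Γ(Y,V)] → Γ(U, Ω_{X/Y})` is bijective on affine opens
-/

set_option autoImplicit false
set_option backward.isDefEq.respectTransparency false

universe u

open CategoryTheory CategoryTheory.Limits AlgebraicGeometry TopologicalSpace Opposite
open Groth.Agent.Synt29

namespace Groth.Agent.OmegaUniv

variable {X Y : Scheme.{u}} (f : X ⟶ Y) [QuasiSeparated f]

/-- Restricting to the image of `fromSpec` reads off the global section of the spectrum. -/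
theorem appIso_hom_res {U : X.Opens} (hU : IsAffineOpen U) (h : hU.fromSpec ''ᵁ ⊤ ≤ U) (b : Γ(X, U)) :
    (hU.fromSpec.appIso ⊤).hom (X.presheaf.map (homOfLE h).op b) = OmAff.toΓ Γ(X, U) b := by
  rw [Scheme.Hom.appIso_hom', ← ConcreteCategory.comp_apply, Scheme.Hom.map_appLE, Scheme.Hom.appLE,
    hU.fromSpec_app_self, Category.assoc, ← Functor.map_comp]
  rw [show ∀ e : op (⊤ : (Spec Γ(X, U)).Opens) ⟶ op ⊤, (Spec Γ(X, U)).presheaf.map e = 𝟙 _ from
    fun e => by rw [Subsingleton.elim e (𝟙 _), CategoryTheory.Functor.map_id], Category.comp_id]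
  rfl

/-- Sections of the frozen differentials over an affine open map back to the Kähler differentials. -/
theorem exists_retraction {U : X.Opens} (hU : IsAffineOpen U) {V : Y.Opens} (hV : IsAffineOpen V)
    (e : U ≤ f ⁻¹ᵁ V) :
    letI := (f.appLE V U e).hom.toAlgebra
    ∃ ψ : Γ(Omega.sheaf f, U) →+ Ω[Γ(X, U)⁄Γ(Y, V)],
      (∀ (r : Γ(X, U)) (m : Γ(Omega.sheaf f, U)), ψ (r • m) = r • ψ m) ∧
      ∀ b : Γ(X, U), ψ (OmegaSh.dSect f U b) = KaehlerDifferential.D Γ(Y, V) Γ(X, U) b := by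
  let _ := (f.appLE V U e).hom.toAlgebra
  let f' := OmegaLib.sMap Γ(Y, V) Γ(X, U)
  have w : f' ≫ hV.fromSpec = hU.fromSpec ≫ f := hV.SpecMap_appLE_fromSpec f hU e
  let j := hU.fromSpec
  have := isIso_ε f f' j hV.fromSpec w
  let E := asIso (ε f f' j hV.fromSpec w)
  have hE : ∀ (W : (Spec Γ(X, U)).Opens) s, E.hom.app W ((OmegaSh.dOmega f').app W s) =
      (OmegaStalk.restrictDer j (OmegaSh.dOmega f)).app W s := ε_dOmega f f' j hV.fromSpec w
  obtain ⟨e', he'⟩ := OmegaLib.exists_iso_kTilde Γ(Y, V) Γ(X, U)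
  have hle : j ''ᵁ ⊤ ≤ U := by
    rw [Scheme.Hom.image_top_eq_opensRange, hU.opensRange_fromSpec]
  let T := AddEquiv.ofBijective (OmegaLib.toTop Γ(Y, V) Γ(X, U))
    (OmegaStalk.top_toTop_bijective Γ(Y, V) Γ(X, U))
  let ψ₀ : Γ((Omega.sheaf f).restrict j, ⊤) →+ Ω[Γ(X, U)⁄Γ(Y, V)] :=
    T.symm.toAddMonoidHom.comp ((e'.hom.app ⊤).hom.comp (E.inv.app ⊤).hom)
  let ρ : Γ(Omega.sheaf f, U) →+ Γ((Omega.sheaf f).restrict j, ⊤) :=
    ((Omega.sheaf f).presheaf.map (homOfLE hle).op).hom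
  have hψ₀ : ∀ (r : Γ(X, U)) (m : Γ((Omega.sheaf f).restrict j, ⊤)),
      ψ₀ (OmAff.toΓ Γ(X, U) r • m) = r • ψ₀ m := fun r m => by
    apply T.injective
    change T (T.symm (e'.hom.app ⊤ (E.inv.app ⊤ (OmAff.toΓ Γ(X, U) r • m)))) = _
    rw [T.apply_symm_apply, Scheme.Modules.Hom.app_smul, Scheme.Modules.Hom.app_smul]
    refine Eq.trans ?_ (OmegaLib.toTop_smul Γ(Y, V) Γ(X, U) r (ψ₀ m)).symm
    exact congrArg (fun x => OmAff.toΓ Γ(X, U) r • x) (T.apply_symm_apply _).symm
  refine ⟨ψ₀.comp ρ, fun r m => ?_, fun b => ?_⟩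
  · refine Eq.trans (congrArg ψ₀ ?_) (hψ₀ r (ρ m))
    change (Omega.sheaf f).presheaf.map (homOfLE hle).op (r • m) =
      (j.appIso ⊤).inv (OmAff.toΓ Γ(X, U) r) • (Omega.sheaf f).presheaf.map (homOfLE hle).op m
    rw [Scheme.Modules.map_smul, ← appIso_hom_res hU hle r, ← ConcreteCategory.comp_apply,
      Iso.hom_inv_id]
    rfl
  · change T.symm (e'.hom.app ⊤ (E.inv.app ⊤ (ρ (OmegaSh.dSect f U b)))) = _
    have h1 : ρ (OmegaSh.dSect f U b) =
        (OmegaStalk.restrictDer j (OmegaSh.dOmega f)).app ⊤ (OmAff.toΓ Γ(X, U) b) := by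
      change _ = OmegaSh.dSect f (j ''ᵁ ⊤) ((j.appIso ⊤).inv (OmAff.toΓ Γ(X, U) b))
      rw [← appIso_hom_res hU hle b, ← ConcreteCategory.comp_apply (j.appIso ⊤).hom, Iso.hom_inv_id]
      exact (OmegaSh.dSect_map f hle b).symm
    rw [h1, ← hE, ← ConcreteCategory.comp_apply (E.hom.app ⊤), ← Scheme.Modules.Hom.comp_app,
      Iso.hom_inv_id]
    apply T.injective
    rw [T.apply_symm_apply]
    exact he' b

/-- The comparison map of differentials is bijective for affine opens. -/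
theorem toSect_bijective {U : X.Opens} (hU : IsAffineOpen U) {V : Y.Opens} (hV : IsAffineOpen V)
    (e : U ≤ f ⁻¹ᵁ V) : Function.Bijective (OmAff.toSect f V U e).hom := by
  let _ := (f.appLE V U e).hom.toAlgebra
  obtain ⟨ψ, hsm, hd⟩ := exists_retraction f hU hV e
  constructor
  · refine Function.LeftInverse.injective (g := ψ) fun z => ?_
    have hz : z ∈ Submodule.span Γ(X, U) (Set.range (KaehlerDifferential.D Γ(Y, V) Γ(X, U))) := by
      rw [KaehlerDifferential.span_range_derivation]; trivial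
    induction hz using Submodule.span_induction with
    | mem y hy =>
      obtain ⟨b, rfl⟩ := hy
      exact (congrArg ψ (OmAff.toSect_d f V U e b)).trans (hd b)
    | zero => rw [map_zero, map_zero]
    | add y y' _ _ h h' => rw [map_add, map_add, h, h']
    | smul r y _ h => rw [map_smul]; exact (hsm r _).trans (congrArg (r • ·) h)
  · intro m
    have hm := (good_of_affine f hU hV e).1 m
    induction hm using Submodule.span_induction with
    | mem y hy =>
      obtain ⟨b, rfl⟩ := hy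
      exact ⟨CommRingCat.KaehlerDifferential.d b, OmAff.toSect_d f V U e b⟩
    | zero => exact ⟨0, map_zero _⟩
    | add y y' _ _ h h' =>
      obtain ⟨a, rfl⟩ := h
      obtain ⟨a', rfl⟩ := h'
      exact ⟨a + a', map_add _ a a'⟩
    | smul r y _ h =>
      obtain ⟨a, rfl⟩ := h
      exact ⟨r • a, map_smul _ r a⟩

end Groth.Agent.OmegaUniv
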