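import Groth.Agent.OmegaUniv.Universal
import Groth.Agent.QCoh.Stalk
import Groth.Agent.QCoh.FT
import Groth.Agent.KFlatLib.Scheme.Exact
import Mathlib.AlgebraicGeometry.Morphisms.FormallyUnramified
import Mathlib.RingTheory.Unramified.Locus
import Mathlib.RingTheory.Unramified.LocalRing

/-!
# Where the sheaf of differentials vanishes: the unramified locus
-/

set_option autoImplicit false
set_option backward.isDefEq.respectTransparency false

universe u

open CategoryTheory CategoryTheory.Limits AlgebraicGeometry TopologicalSpace Opposite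
open Groth.Agent.Synt29

namespace Groth.Agent.OmegaUniv

variable {X Y : Scheme.{u}} (f : X ⟶ Y) [QuasiSeparated f]

/-- The frozen sheaf of differentials is quasi-coherent. -/
theorem isQCoh_omega : Coh.IsQCoh (Omega.sheaf f) :=
  OmegaStalk.isQCoh_of_isUniversal (isUniversal_dOmega f)

/-- The frozen sheaf of differentials is of finite type for `f` locally of finite type. -/
theorem isFT_omega [LocallyOfFiniteType f] : CohB1.IsFT (Omega.sheaf f) := by
  choose U hU V hV hxU e using OmegaStalk.exists_charts f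
  refine QCoh.isFT_of_finite (isQCoh_omega f) U
    (eq_top_iff.mpr fun x _ => Opens.mem_iSup.mpr ⟨x, hxU x⟩) hU fun x => ?_
  let _ := (f.appLE (V x) (U x) (e x)).hom.toAlgebra
  haveI : Algebra.FiniteType Γ(Y, V x) Γ(X, U x) := by
    rw [← RingHom.finiteType_algebraMap, RingHom.algebraMap_toAlgebra]
    exact HasRingHomProperty.appLE (P := @LocallyOfFiniteType) f ‹_› ⟨V x, hV x⟩ ⟨U x, hU x⟩ (e x)
  obtain ⟨l⟩ := OmegaStalk.exists_linearEquiv_sections (isUniversal_dOmega f) (hU x) (hV x) (e x)
  exact Module.Finite.equiv l.symm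

/-- A stalk of the differentials vanishes iff the chart is unramified at the corresponding prime. -/
theorem subsingleton_stalk_iff {x : X} {U : X.Opens} (hU : IsAffineOpen U) (hx : x ∈ U) {V : Y.Opens}
    (hV : IsAffineOpen V) (e : U ≤ f ⁻¹ᵁ V) :
    letI := (f.appLE V U e).hom.toAlgebra
    Subsingleton ((Omega.sheaf f).presheaf.stalk x) ↔
      Algebra.IsUnramifiedAt Γ(Y, V) (hU.primeIdealOf ⟨x, hx⟩).asIdeal := by
  let _ := (f.appLE V U e).hom.toAlgebra
  letI := QCoh.stalkModule (Omega.sheaf f) hx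
  haveI := QCoh.isLocalizedModule_germLin (isQCoh_omega f) hU hx
  obtain ⟨l⟩ := OmegaStalk.exists_linearEquiv_sections (isUniversal_dOmega f) hU hV e
  have h1 := (IsLocalizedModule.iso (hU.primeIdealOf ⟨x, hx⟩).asIdeal.primeCompl
    (QCoh.germLin (Omega.sheaf f) hx)).subsingleton_congr
  have h2 : (hU.primeIdealOf ⟨x, hx⟩) ∈ Algebra.unramifiedLocus Γ(Y, V) Γ(X, U) ↔
      Algebra.IsUnramifiedAt Γ(Y, V) (hU.primeIdealOf ⟨x, hx⟩).asIdeal := Iff.rfl
  rw [← h2, Algebra.unramifiedLocus_eq_compl_support, Set.mem_compl_iff, ← l.support_eq,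
    Module.notMem_support_iff]
  exact h1.symm

/-- A stalk of the differentials vanishes iff the map of local rings is formally unramified. -/
theorem subsingleton_stalk_iff_stalkMap (x : X) :
    Subsingleton ((Omega.sheaf f).presheaf.stalk x) ↔ (f.stalkMap x).hom.FormallyUnramified := by
  obtain ⟨U, hU, V, hV, hx, e⟩ := OmegaStalk.exists_charts f x
  let _ := (f.appLE V U e).hom.toAlgebra
  rw [subsingleton_stalk_iff f hU hx hV e]
  have hy : f x ∈ V := e hx
  letI := QCoh.stalkAlg (X := X) hx
  letI := QCoh.stalkAlg (X := Y) hy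
  haveI := QCoh.isLocalization_stalk' hU hx
  haveI := QCoh.isLocalization_stalk' hV hy
  letI := (f.stalkMap x).hom.toAlgebra
  letI : Algebra Γ(Y, V) (X.presheaf.stalk x) :=
    ((X.presheaf.germ U x hx).hom.comp (f.appLE V U e).hom).toAlgebra
  haveI : IsScalarTower Γ(Y, V) Γ(X, U) (X.presheaf.stalk x) := IsScalarTower.of_algebraMap_eq fun _ => rfl
  haveI : IsScalarTower Γ(Y, V) (Y.presheaf.stalk (f x)) (X.presheaf.stalk x) :=
    IsScalarTower.of_algebraMap_eq fun a => by
      change X.presheaf.germ U x hx (f.appLE V U e a) = f.stalkMap x (Y.presheaf.germ V (f x) hy a)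
      rw [Scheme.Hom.germ_stalkMap_apply, Scheme.Hom.appLE, CommRingCat.comp_apply,
        TopCat.Presheaf.germ_res_apply']
  haveI : Algebra.FormallyUnramified Γ(Y, V) (Y.presheaf.stalk (f x)) :=
    Algebra.FormallyUnramified.of_isLocalization (hV.primeIdealOf ⟨f x, hy⟩).asIdeal.primeCompl
  let q := (hU.primeIdealOf ⟨x, hx⟩).asIdeal
  let el := (IsLocalization.algEquiv q.primeCompl (Localization.AtPrime q)
    (X.presheaf.stalk x)).restrictScalars Γ(Y, V)
  refine ⟨fun h => ?_, fun h => ?_⟩
  · haveI : Algebra.FormallyUnramified Γ(Y, V) (X.presheaf.stalk x) :=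
      Algebra.FormallyUnramified.of_equiv el
    exact Algebra.FormallyUnramified.of_restrictScalars Γ(Y, V) (Y.presheaf.stalk (f x)) (X.presheaf.stalk x)
  · haveI : Algebra.FormallyUnramified (Y.presheaf.stalk (f x)) (X.presheaf.stalk x) := h
    haveI := Algebra.FormallyUnramified.comp Γ(Y, V) (Y.presheaf.stalk (f x)) (X.presheaf.stalk x)
    exact Algebra.FormallyUnramified.of_equiv el.symm

/-- The chart is formally unramified if all the stalks of the differentials vanish on it. -/
theorem formallyUnramified_appLE {U : X.Opens} (hU : IsAffineOpen U) {V : Y.Opens} (hV : IsAffineOpen V)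
    (e : U ≤ f ⁻¹ᵁ V) (h : ∀ x ∈ U, Subsingleton ((Omega.sheaf f).presheaf.stalk x)) :
    (f.appLE V U e).hom.FormallyUnramified := by
  let _ := (f.appLE V U e).hom.toAlgebra
  change Algebra.FormallyUnramified Γ(Y, V) Γ(X, U)
  refine Algebra.formallyUnramified_iff_forall.2 fun q => ?_
  have hy : hU.fromSpec q ∈ U := by
    have h' : hU.fromSpec q ∈ Set.range hU.fromSpec := ⟨q, rfl⟩
    rwa [hU.range_fromSpec] at h'
  have hq : hU.primeIdealOf ⟨hU.fromSpec q, hy⟩ = q :=
    hU.fromSpec.isOpenEmbedding.injective (hU.fromSpec_primeIdealOf _)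
  have := (subsingleton_stalk_iff f hU hy hV e).1 (h _ hy)
  rwa [hq] at this

/-- The differentials vanish iff the morphism is formally unramified. -/
theorem isZero_iff : IsZero (Omega.sheaf f) ↔ FormallyUnramified f := by
  refine ⟨fun h => ⟨fun {V} hV {U} hU e => formallyUnramified_appLE f hU hV e fun x _ => ?_⟩, fun h => ?_⟩
  · exact ModuleCat.subsingleton_of_isZero ((DerSch.stalkFunctor X x).map_isZero h)
  · refine KFlatLib.isZero_of_stalk _ fun x => ModuleCat.isZero_of_iff_subsingleton.2 ?_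
    exact (subsingleton_stalk_iff_stalkMap f x).2 (FormallyUnramified.stalkMap f x)

/-- A point has a formally unramified neighbourhood iff the stalk of the differentials vanishes there. -/
theorem exists_open_iff [LocallyOfFiniteType f] (x : X) (hclosed : IsClosed (CohB1.support (Omega.sheaf f))) :
    (∃ U : X.Opens, x ∈ U ∧ FormallyUnramified (U.ι ≫ f)) ↔
      Subsingleton ((Omega.sheaf f).presheaf.stalk x) := by
  constructor
  · rintro ⟨U, hxU, hUF⟩
    obtain ⟨V, hV, hxV, -⟩ := Opens.isBasis_iff_nbhd.mp Y.isBasis_affineOpens (Opens.mem_top (f x))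
    obtain ⟨W, hW, hxW, hWle⟩ := Opens.isBasis_iff_nbhd.mp X.isBasis_affineOpens
      (show x ∈ U ⊓ f ⁻¹ᵁ V from ⟨hxU, hxV⟩)
    have e : W ≤ f ⁻¹ᵁ V := hWle.trans inf_le_right
    let _ := (f.appLE V W e).hom.toAlgebra
    rw [subsingleton_stalk_iff f hW hxW hV e]
    haveI : FormallyUnramified (Spec.map (f.appLE V W e) ≫ hV.fromSpec) := by
      rw [hV.SpecMap_appLE_fromSpec f hW e, show hW.fromSpec ≫ f =
        hW.isoSpec.inv ≫ X.homOfLE (hWle.trans inf_le_left) ≫ U.ι ≫ f by
          rw [Scheme.homOfLE_ι_assoc, IsAffineOpen.fromSpec, Category.assoc]]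
      exact MorphismProperty.comp_mem _ _ _ inferInstance
        (MorphismProperty.comp_mem _ _ _ inferInstance hUF)
    haveI : FormallyUnramified (Spec.map (f.appLE V W e)) :=
      FormallyUnramified.of_comp _ hV.fromSpec
    have : Algebra.FormallyUnramified Γ(Y, V) Γ(X, W) :=
      (HasRingHomProperty.Spec_iff (P := @FormallyUnramified)).1 ‹_›
    exact Algebra.formallyUnramified_iff_forall.1 this _
  · intro h
    let O : X.Opens := ⟨(CohB1.support (Omega.sheaf f))ᶜ, hclosed.isOpen_compl⟩
    have hxO : x ∈ O := fun hn => hn h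
    obtain ⟨V, hV, hxV, -⟩ := Opens.isBasis_iff_nbhd.mp Y.isBasis_affineOpens (Opens.mem_top (f x))
    obtain ⟨W, hW, hxW, hWle⟩ := Opens.isBasis_iff_nbhd.mp X.isBasis_affineOpens
      (show x ∈ O ⊓ f ⁻¹ᵁ V from ⟨hxO, hxV⟩)
    have e : W ≤ f ⁻¹ᵁ V := hWle.trans inf_le_right
    refine ⟨W, hxW, ?_⟩
    haveI : FormallyUnramified (Spec.map (f.appLE V W e)) :=
      (HasRingHomProperty.Spec_iff (P := @FormallyUnramified)).2
        (formallyUnramified_appLE f hW hV e fun z hz => not_not.1 (hWle hz).1)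
    have : Scheme.Opens.ι (X := X) W ≫ f = hW.isoSpec.hom ≫ Spec.map (f.appLE V W e) ≫ hV.fromSpec := by
      rw [hV.SpecMap_appLE_fromSpec f hW e, IsAffineOpen.fromSpec, Category.assoc, Iso.hom_inv_id_assoc]
    rw [this]
    exact MorphismProperty.comp_mem _ _ _ inferInstance
      (MorphismProperty.comp_mem _ _ _ inferInstance inferInstance)

end Groth.Agent.OmegaUniv
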