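import Groth.Agent.OmegaUniv.Restrict
import Groth.Agent.Synt29.OmegaAffine

/-! The frozen derivation into the frozen sheaf of differentials is universal. -/

set_option autoImplicit false

universe u

open CategoryTheory CategoryTheory.Limits AlgebraicGeometry TopologicalSpace Opposite
open Groth.Agent.Synt29

namespace Groth.Agent.OmegaUniv

variable {X Y : Scheme.{u}} (f : X ⟶ Y) [QuasiSeparated f]

/-- The differentials span the sections over `U`, and derivations give linear maps out of them. -/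
def Good (U : X.Opens) : Prop :=
  (∀ m : Γ(Omega.sheaf f, U),
      m ∈ Submodule.span Γ(X, U) (Set.range ((OmegaSh.dOmega f).app U))) ∧
    ∀ (F : X.Modules) (D : OmegaSh.Der f F), ∃ φ : Γ(Omega.sheaf f, U) →+ Γ(F, U),
      (∀ (r : Γ(X, U)) m, φ (r • m) = r • φ m) ∧
      ∀ s, φ ((OmegaSh.dOmega f).app U s) = D.app U s

theorem good_image {U : X.Opens} (hU : IsAffineOpen U) {V : Y.Opens} (hV : IsAffineOpen V)
    (e : U ≤ f ⁻¹ᵁ V) : Good f (hU.fromSpec ''ᵁ ⊤) := by
  let _ := (f.appLE V U e).hom.toAlgebra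
  let f' := OmegaLib.sMap Γ(Y, V) Γ(X, U)
  have w : f' ≫ hV.fromSpec = hU.fromSpec ≫ f := hV.SpecMap_appLE_fromSpec f hU e
  let j := hU.fromSpec
  have := isIso_ε f f' j hV.fromSpec w
  let E := asIso (ε f f' j hV.fromSpec w)
  have hE : ∀ (W : (Spec Γ(X, U)).Opens) s, E.hom.app W ((OmegaSh.dOmega f').app W s) =
      (OmegaStalk.restrictDer j (OmegaSh.dOmega f)).app W s := ε_dOmega f f' j hV.fromSpec w
  have hd : ∀ s : Γ(Spec Γ(X, U), ⊤),
      (OmegaStalk.restrictDer j (OmegaSh.dOmega f)).app ⊤ s =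
        (OmegaSh.dOmega f).app (j ''ᵁ ⊤) ((j.appIso ⊤).inv s) := fun _ => rfl
  constructor
  · intro m
    obtain ⟨m', rfl⟩ := (ConcreteCategory.bijective_of_isIso (E.hom.app ⊤)).2
      (show Γ((Omega.sheaf f).restrict j, ⊤) from m)
    obtain ⟨e', he'⟩ := OmegaLib.exists_iso_kTilde Γ(Y, V) Γ(X, U)
    obtain ⟨z, hz⟩ := (OmegaStalk.top_toTop_bijective Γ(Y, V) Γ(X, U)).2 (e'.hom.app ⊤ m')
    have hm' : m' = e'.inv.app ⊤ (OmegaLib.toTop Γ(Y, V) Γ(X, U) z) := by
      rw [hz, ← ConcreteCategory.comp_apply, ← Scheme.Modules.Hom.comp_app, Iso.hom_inv_id]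
      rfl
    rw [hm']
    clear hz hm' m'
    have hz : z ∈ Submodule.span Γ(X, U) (Set.range (KaehlerDifferential.D Γ(Y, V) Γ(X, U))) := by
      rw [KaehlerDifferential.span_range_derivation]; trivial
    induction hz using Submodule.span_induction with
    | mem y hy =>
        obtain ⟨b, rfl⟩ := hy
        rw [← he' b, ← ConcreteCategory.comp_apply (e'.hom.app ⊤), ← Scheme.Modules.Hom.comp_app,
          Iso.hom_inv_id]
        refine Submodule.subset_span ⟨(j.appIso ⊤).inv (OmAff.toΓ Γ(X, U) b), ?_⟩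
        exact ((hE ⊤ (OmAff.toΓ Γ(X, U) b)).trans (hd _)).symm
    | zero => rw [map_zero, map_zero, map_zero]; exact zero_mem _
    | add y y' _ _ h h' => rw [map_add, map_add, map_add]; exact add_mem h h'
    | smul b y _ h =>
        rw [OmegaLib.toTop_smul, Scheme.Modules.Hom.app_smul, Scheme.Modules.Hom.app_smul]
        exact Submodule.smul_mem _ _ h
  · intro F D
    obtain ⟨a', ha', -⟩ := OmegaStalk.isUniversal_dOmega Γ(Y, V) Γ(X, U) (F.restrict j)
      (OmegaStalk.derToOpen (j ≫ f) f' hV.fromSpec w.symm (OmegaStalk.restrictDer j D))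
    let a : (Omega.sheaf f).restrict j ⟶ F.restrict j := E.inv ≫ a'
    refine ⟨(a.app ⊤).hom, fun r m => ?_, fun s => ?_⟩
    · obtain ⟨r, rfl⟩ := (ConcreteCategory.bijective_of_isIso (j.appIso ⊤).inv).2 r
      exact a.app_smul r (show Γ((Omega.sheaf f).restrict j, ⊤) from m)
    · obtain ⟨s, rfl⟩ := (ConcreteCategory.bijective_of_isIso (j.appIso ⊤).inv).2 s
      show a'.app ⊤ (E.inv.app ⊤ ((OmegaStalk.restrictDer j (OmegaSh.dOmega f)).app ⊤ s)) = _
      rw [← hE, ← ConcreteCategory.comp_apply (E.hom.app ⊤), ← Scheme.Modules.Hom.comp_app,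
        Iso.hom_inv_id]
      exact PresheafOfModules.Derivation.congr_d ha' s

theorem good_of_affine {U : X.Opens} (hU : IsAffineOpen U) {V : Y.Opens} (hV : IsAffineOpen V)
    (e : U ≤ f ⁻¹ᵁ V) : Good f U := by
  have h := good_image f hU hV e
  rwa [Scheme.Hom.image_top_eq_opensRange, hU.opensRange_fromSpec] at h

theorem exists_good_le {W : X.Opens} {x : X} (hx : x ∈ W) :
    ∃ U : X.Opens, Good f U ∧ x ∈ U ∧ U ≤ W := by
  obtain ⟨V, hV, hxV, -⟩ := Opens.isBasis_iff_nbhd.mp Y.isBasis_affineOpens (Opens.mem_top (f x))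
  obtain ⟨U, hU, hxU, e⟩ := Opens.isBasis_iff_nbhd.mp X.isBasis_affineOpens
    (show x ∈ W ⊓ f ⁻¹ᵁ V from ⟨hx, hxV⟩)
  exact ⟨U, good_of_affine f hU hV (e.trans inf_le_right), hxU, e.trans inf_le_left⟩

variable {f} {F : X.Modules} (D : OmegaSh.Der f F)

/-- The map on a good open. -/
noncomputable def φ {U : X.Opens} (hU : Good f U) : Γ(Omega.sheaf f, U) →+ Γ(F, U) :=
  (hU.2 F D).choose

theorem φ_smul {U : X.Opens} (hU : Good f U) (r : Γ(X, U)) (m : Γ(Omega.sheaf f, U)) :
    φ D hU (r • m) = r • φ D hU m := (hU.2 F D).choose_spec.1 r m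

theorem φ_d {U : X.Opens} (hU : Good f U) (s : Γ(X, U)) :
    φ D hU ((OmegaSh.dOmega f).app U s) = D.app U s := (hU.2 F D).choose_spec.2 s

theorem res_φ {U U' : X.Opens} (hU : Good f U) (hU' : Good f U') (h : U' ≤ U) (m : Γ(Omega.sheaf f, U)) :
    F.presheaf.map (homOfLE h).op (φ D hU m) =
      φ D hU' ((Omega.sheaf f).presheaf.map (homOfLE h).op m) := by
  induction hU.1 m using Submodule.span_induction with
  | mem y hy =>
      obtain ⟨s, rfl⟩ := hy
      rw [φ_d, ← OmegaStalk.app_res, ← OmegaStalk.app_res, φ_d]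
  | zero => simp only [map_zero]
  | add y y' _ _ a b => simp only [map_add, a, b]
  | smul r y _ a => rw [φ_smul, Scheme.Modules.map_smul, a, Scheme.Modules.map_smul, φ_smul]

/-- The glued value. -/
def Rel (W : X.Opens) (k : Γ(Omega.sheaf f, W)) (t : Γ(F, W)) : Prop :=
  ∀ (U : X.Opens) (hU : Good f U) (h : U ≤ W),
    φ D hU ((Omega.sheaf f).presheaf.map (homOfLE h).op k) = F.presheaf.map (homOfLE h).op t

theorem rel_unique {W : X.Opens} {k : Γ(Omega.sheaf f, W)} {t t' : Γ(F, W)} (h : Rel D W k t)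
    (h' : Rel D W k t') : t = t' := by
  refine sub_eq_zero.1 (QCoh.eq_zero_of_locally W _ fun p hp => ?_)
  obtain ⟨U, hU, hpU, hUW⟩ := exists_good_le f hp
  exact ⟨U, homOfLE hUW, hpU, by rw [map_sub, ← h U hU hUW, ← h' U hU hUW, sub_self]⟩

theorem exists_rel (W : X.Opens) (k : Γ(Omega.sheaf f, W)) : ∃ t, Rel D W k t := by
  let ι := {U : X.Opens // Good f U ∧ U ≤ W}
  let t : ∀ i : ι, Γ(F, i.1) :=
    fun i => φ D i.2.1 ((Omega.sheaf f).presheaf.map (homOfLE i.2.2).op k)
  obtain ⟨T, hT, -⟩ := TopCat.Sheaf.existsUnique_gluing' ⟨F.presheaf, F.isSheaf⟩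
    (fun i : ι => i.1) W (fun i => homOfLE i.2.2)
    (fun x hx => by
      obtain ⟨U, hU, hxU, hUW⟩ := exists_good_le f hx
      exact Opens.mem_iSup.2 ⟨⟨U, hU, hUW⟩, hxU⟩) t (fun i i' => by
      refine sub_eq_zero.1 (QCoh.eq_zero_of_locally (M := F) _ _ fun p hp => ?_)
      obtain ⟨U, hU, hpU, hle⟩ := exists_good_le f (W := i.1 ⊓ i'.1) hp
      refine ⟨U, homOfLE hle, hpU, ?_⟩
      rw [map_sub, sub_eq_zero]
      erw [OmegaSh.resM_resM, OmegaSh.resM_resM]
      erw [res_φ D i.2.1 hU (hle.trans inf_le_left), res_φ D i'.2.1 hU (hle.trans inf_le_right),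
        OmegaSh.resM_resM, OmegaSh.resM_resM]
      rfl)
  exact ⟨T, fun U hU h => (hT ⟨U, hU, h⟩).symm⟩

theorem rel_smul {W : X.Opens} (r : Γ(X, W)) {k : Γ(Omega.sheaf f, W)} {t : Γ(F, W)}
    (h : Rel D W k t) : Rel D W (r • k) (r • t) := fun U hU hle => by
  rw [Scheme.Modules.map_smul, φ_smul, h U hU hle, Scheme.Modules.map_smul]

theorem rel_add {W : X.Opens} {k k' : Γ(Omega.sheaf f, W)} {t t' : Γ(F, W)}
    (h : Rel D W k t) (h' : Rel D W k' t') : Rel D W (k + k') (t + t') := fun U hU hle => by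
  rw [map_add, map_add, map_add, h U hU hle, h' U hU hle]

theorem rel_res {W W' : X.Opens} (i : W' ≤ W) {k : Γ(Omega.sheaf f, W)} {t : Γ(F, W)}
    (h : Rel D W k t) : Rel D W' ((Omega.sheaf f).presheaf.map (homOfLE i).op k)
      (F.presheaf.map (homOfLE i).op t) := fun U hU hle => by
  rw [OmegaSh.resM_resM, OmegaSh.resM_resM]
  exact h U hU (hle.trans i)

theorem rel_d (W : X.Opens) (s : Γ(X, W)) : Rel D W ((OmegaSh.dOmega f).app W s) (D.app W s) :=
  fun U hU hle => by rw [← OmegaStalk.app_res, φ_d, OmegaStalk.app_res]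

/-- The linear map of a derivation. -/
noncomputable def desc : Omega.sheaf f ⟶ F where
  val := PresheafOfModules.homMk
    { app := fun W => AddCommGrpCat.ofHom (AddMonoidHom.mk' (fun k => (exists_rel D W.unop k).choose)
        fun k k' => rel_unique D (exists_rel D W.unop (k + k')).choose_spec
          (rel_add D (exists_rel D W.unop k).choose_spec (exists_rel D W.unop k').choose_spec))
      naturality := fun W W' i => by
        ext k
        exact rel_unique D (exists_rel D W'.unop _).choose_spec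
          (rel_res D i.unop.le (exists_rel D W.unop k).choose_spec) }
    fun W r k => rel_unique D (exists_rel D W.unop _).choose_spec
      (rel_smul D r (exists_rel D W.unop k).choose_spec)

theorem desc_d (W : X.Opens) (s : Γ(X, W)) :
    (desc D).app W ((OmegaSh.dOmega f).app W s) = D.app W s :=
  rel_unique D (exists_rel D W _).choose_spec (rel_d D W s)

variable (f)

/-- `dOmega f` is a universal derivation. -/
theorem isUniversal_dOmega : OmegaSh.IsUniversal (OmegaSh.dOmega f) := by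
  intro F D
  refine ⟨desc D, ?_, fun β hβ => ?_⟩
  · refine PresheafOfModules.Derivation.ext ?_
    funext W
    exact AddMonoidHom.ext fun s => desc_d D W.unop s
  · refine Scheme.Modules.hom_ext _ _ fun W => ?_
    ext k
    refine rel_unique D (fun U hU hle => ?_) (exists_rel D W k).choose_spec
    erw [← QCoh.map_app_comm]
    generalize (Omega.sheaf f).presheaf.map (homOfLE hle).op k = m
    induction hU.1 m using Submodule.span_induction with
    | mem y hy =>
        obtain ⟨s, rfl⟩ := hy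
        rw [φ_d]
        exact (PresheafOfModules.Derivation.congr_d hβ (X := op U) s).symm
    | zero => simp only [map_zero]
    | add y y' _ _ a b => rw [map_add, map_add, a, b]
    | smul r y _ a => rw [φ_smul, Scheme.Modules.Hom.app_smul, a]

end Groth.Agent.OmegaUniv
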